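import Groth.Prelude.Def_Flat
import Groth.Prelude.Def_HTop2
import Mathlib.AlgebraicGeometry.Morphisms.UniversallyInjective
import Mathlib.AlgebraicGeometry.Morphisms.Finite
import Mathlib.AlgebraicGeometry.Morphisms.Proper
import Mathlib.AlgebraicGeometry.IdealSheaf.Subscheme
import Mathlib.AlgebraicGeometry.Morphisms.ClosedImmersion

/-!
Scheme-theoretic images of universal homeomorphisms.
-/

universe u

open CategoryTheory CategoryTheory.Limits AlgebraicGeometry MorphismProperty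

namespace Groth.Agent.AWN95

variable {T T' P : Scheme.{u}}

theorem universallyInjective_of_comp_surjective {X Y Z : Scheme.{u}} (f : X ⟶ Y) (g : Y ⟶ Z)
    [hfg : UniversallyInjective (f ≫ g)] [Surjective f] : UniversallyInjective g := by
  constructor
  intro X' Y' i₁ i₂ f' H
  have hinj := hfg.universally_injective _ _ _ ((IsPullback.of_hasPullback i₁ f).paste_horiz H)
  have hs : Surjective (pullback.fst i₁ f) := MorphismProperty.pullback_fst i₁ f ‹Surjective f›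
  intro a b hab
  obtain ⟨a', rfl⟩ := hs.surj a
  obtain ⟨b', rfl⟩ := hs.surj b
  exact congrArg _ (hinj hab)

theorem props_of_isUnivHomeo {X Y : Scheme.{u}} {f : X ⟶ Y} (h : FlatMor.IsUnivHomeo f) :
    UniversallyClosed f ∧ UniversallyInjective f ∧ Surjective f :=
  ⟨⟨fun _ _ _ _ _ hp => (h _ _ _ hp).isClosedMap⟩, ⟨fun _ _ _ _ _ hp => (h _ _ _ hp).injective⟩,
    ⟨(h _ _ _ (IsPullback.of_id_snd (f := f))).surjective⟩⟩

theorem isUnivHomeo_of {X Y : Scheme.{u}} (f : X ⟶ Y) [UniversallyClosed f] [UniversallyInjective f] [Surjective f] :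
    FlatMor.IsUnivHomeo f := by
  intro X' Y' g g' f' hp
  have a1 : UniversallyClosed f' := MorphismProperty.of_isPullback hp.flip ‹UniversallyClosed f›
  have a2 : UniversallyInjective f' := MorphismProperty.of_isPullback hp.flip ‹UniversallyInjective f›
  have a3 : Surjective f' := MorphismProperty.of_isPullback hp.flip ‹Surjective f›
  exact isHomeomorph_iff_continuous_isClosedMap_bijective.2
    ⟨f'.continuous, f'.isClosedMap, f'.injective, f'.surjective⟩

/-- A factorisation of a universal homeomorphism through a separated scheme locally of finite type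
gives a finite universal homeomorphism onto its scheme-theoretic image. -/
theorem exists_finite_univHomeo {ν : T' ⟶ T} (hν : FlatMor.IsUnivHomeo ν) (p : P ⟶ T) [IsSeparated p]
    [LocallyOfFiniteType p] (m : T' ⟶ P) (hm : m ≫ p = ν) :
    ∃ (T₁ : Scheme.{u}) (i : T₁ ⟶ P) (h : T' ⟶ T₁), h ≫ i = m ∧ IsFinite (i ≫ p) ∧ FlatMor.IsUnivHomeo (i ≫ p) ∧
      Surjective h := by
  obtain ⟨hc, hi, hs⟩ := props_of_isUnivHomeo hν
  have : QuasiCompact (m ≫ p) := hm ▸ (inferInstance : QuasiCompact ν)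
  have : QuasiCompact m := QuasiCompact.of_comp m p
  have hcomp : m.toImage ≫ m.imageι ≫ p = ν := by rw [Scheme.Hom.toImage_imageι_assoc, hm]
  have c0 : UniversallyClosed (m.toImage ≫ m.imageι ≫ p) := hcomp ▸ hc
  have i0 : UniversallyInjective (m.toImage ≫ m.imageι ≫ p) := hcomp ▸ hi
  have s0 : Surjective (m.toImage ≫ m.imageι ≫ p) := hcomp ▸ hs
  have : UniversallyClosed m.toImage := UniversallyClosed.of_comp_of_isSeparated m.toImage (m.imageι ≫ p)
  have hsurj : Surjective m.toImage := by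
    refine ⟨Set.range_eq_univ.mp ?_⟩
    rw [← (m.toImage.isClosedMap.isClosed_range).closure_eq]
    exact (IsDominant.denseRange (f := m.toImage)).closure_range
  have : UniversallyClosed (m.imageι ≫ p) := UniversallyClosed.of_comp_surjective m.toImage _
  have : UniversallyInjective (m.imageι ≫ p) := universallyInjective_of_comp_surjective m.toImage _
  have : Surjective (m.imageι ≫ p) := Surjective.of_comp m.toImage _
  have hu := isUnivHomeo_of (m.imageι ≫ p)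
  have hh := hu _ _ _ (IsPullback.of_id_snd (f := m.imageι ≫ p))
  have : IsAffineHom (m.imageι ≫ p) :=
    isAffineHom_of_isInducing _ hh.isInducing (hh.surjective.range_eq ▸ isClosed_univ)
  have : IsIntegralHom (m.imageι ≫ p) := IsIntegralHom.iff_universallyClosed_and_isAffineHom.mpr ⟨inferInstance, inferInstance⟩
  exact ⟨m.image, m.imageι, m.toImage, m.toImage_imageι,
    (IsFinite.iff_isIntegralHom_and_locallyOfFiniteType _).mpr ⟨inferInstance, inferInstance⟩, hu, hsurj⟩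

/-- Residue field isomorphisms descend along a surjective factor. -/
theorem residueFieldsIso_of_comp {T₁ : Scheme.{u}} (h : T' ⟶ T₁) (π : T₁ ⟶ T) [Surjective h]
    (hν : HTop.ResidueFieldsIso (h ≫ π)) : HTop.ResidueFieldsIso π := by
  intro y
  obtain ⟨x, rfl⟩ := h.surjective y
  have h1 := hν x
  rw [Scheme.residueFieldMap_comp] at h1
  have h1' : IsIso (π.residueFieldMap (h x) ≫ h.residueFieldMap x) := h1
  have : IsSplitEpi (h.residueFieldMap x) := ⟨⟨inv (π.residueFieldMap (h x) ≫ h.residueFieldMap x) ≫ π.residueFieldMap (h x),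
    by rw [Category.assoc, IsIso.inv_hom_id]⟩⟩
  have : Mono (h.residueFieldMap x) :=
    ConcreteCategory.mono_of_injective _ (RingHom.injective _)
  have : IsIso (h.residueFieldMap x) := isIso_of_mono_of_isSplitEpi _
  exact IsIso.of_isIso_comp_right (π.residueFieldMap (h x)) (h.residueFieldMap x)

variable {S X : Scheme.{u}} [X.IsSeparated] (fX : X ⟶ S) [LocallyOfFiniteType fX] (fT : T ⟶ S) {ν : T' ⟶ T}

theorem exists_stage (hν : FlatMor.IsUnivHomeo ν) (g : T' ⟶ X) (hg : g ≫ fX = ν ≫ fT) :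
    ∃ (T₁ : Scheme.{u}) (π : T₁ ⟶ T) (g₁ : T₁ ⟶ X) (h : T' ⟶ T₁), IsFinite π ∧ FlatMor.IsUnivHomeo π ∧
      Surjective h ∧ h ≫ π = ν ∧ g₁ ≫ fX = π ≫ fT ∧ h ≫ g₁ = g := by
  have : IsSeparated fX := IsSeparated.of_comp fX (terminal.from S)
  obtain ⟨T₁, i, h, hi, hfin, hu, hs⟩ := exists_finite_univHomeo hν (pullback.fst fT fX)
    (pullback.lift ν g hg.symm) (pullback.lift_fst _ _ _)
  refine ⟨T₁, i ≫ pullback.fst fT fX, i ≫ pullback.snd fT fX, h, hfin, hu, hs, ?_, ?_, ?_⟩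
  · rw [reassoc_of% hi, pullback.lift_fst]
  · rw [Category.assoc, Category.assoc, pullback.condition]
  · rw [reassoc_of% hi, pullback.lift_snd]

theorem exists_eq (hν : FlatMor.IsUnivHomeo ν) {T₁ T₂ : Scheme.{u}} (π₁ : T₁ ⟶ T) (π₂ : T₂ ⟶ T) [IsFinite π₁]
    [IsFinite π₂] (g₁ : T₁ ⟶ X) (g₂ : T₂ ⟶ X) (h₁ : T' ⟶ T₁) (h₂ : T' ⟶ T₂)
    (e₁ : g₁ ≫ fX = π₁ ≫ fT) (e₂ : g₂ ≫ fX = π₂ ≫ fT) (k₁ : h₁ ≫ π₁ = ν) (k₂ : h₂ ≫ π₂ = ν)
    (e : h₁ ≫ g₁ = h₂ ≫ g₂) :
    ∃ (T₃ : Scheme.{u}) (π₃ : T₃ ⟶ T) (a₁ : T₃ ⟶ T₁) (a₂ : T₃ ⟶ T₂) (h : T' ⟶ T₃), IsFinite π₃ ∧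
      FlatMor.IsUnivHomeo π₃ ∧ Surjective h ∧ h ≫ π₃ = ν ∧ a₁ ≫ π₁ = π₃ ∧ a₂ ≫ π₂ = π₃ ∧ a₁ ≫ g₁ = a₂ ≫ g₂ := by
  have : IsSeparated fX := IsSeparated.of_comp fX (terminal.from S)
  have hc : (pullback.fst π₁ π₂ ≫ g₁) ≫ fX = (pullback.snd π₁ π₂ ≫ g₂) ≫ fX := by
    rw [Category.assoc, Category.assoc, e₁, e₂, pullback.condition_assoc]
  obtain ⟨k, hk1, hk2⟩ : ∃ k : pullback π₁ π₂ ⟶ pullback fX fX,
      k ≫ pullback.fst fX fX = pullback.fst π₁ π₂ ≫ g₁ ∧ k ≫ pullback.snd fX fX = pullback.snd π₁ π₂ ≫ g₂ :=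
    ⟨pullback.lift _ _ hc, pullback.lift_fst _ _ _, pullback.lift_snd _ _ _⟩
  obtain ⟨m₀, hm1, hm2⟩ : ∃ m₀ : T' ⟶ pullback π₁ π₂, m₀ ≫ pullback.fst π₁ π₂ = h₁ ∧ m₀ ≫ pullback.snd π₁ π₂ = h₂ :=
    ⟨pullback.lift h₁ h₂ (k₁.trans k₂.symm), pullback.lift_fst _ _ _, pullback.lift_snd _ _ _⟩
  let q := pullback.snd (pullback.diagonal fX) k
  have hq : q ≫ pullback.fst π₁ π₂ ≫ g₁ = q ≫ pullback.snd π₁ π₂ ≫ g₂ := by
    rw [← hk1, ← hk2, ← pullback.condition_assoc, ← pullback.condition_assoc, pullback.diagonal_fst,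
      pullback.diagonal_snd]
  obtain ⟨m, hm⟩ : ∃ m : T' ⟶ pullback (pullback.diagonal fX) k, m ≫ q = m₀ :=
    ⟨pullback.lift (h₁ ≫ g₁) m₀ (by
      apply pullback.hom_ext
      · rw [Category.assoc, Category.assoc, pullback.diagonal_fst, Category.comp_id, Category.assoc, hk1, reassoc_of% hm1]
      · rw [Category.assoc, Category.assoc, pullback.diagonal_snd, Category.comp_id, Category.assoc, hk2, reassoc_of% hm2, e]),
      pullback.lift_snd _ _ _⟩
  obtain ⟨T₃, i, h, hi, hfin, hu, hs⟩ := exists_finite_univHomeo hν (q ≫ pullback.fst π₁ π₂ ≫ π₁) m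
    (by rw [reassoc_of% hm, reassoc_of% hm1, k₁])
  refine ⟨T₃, i ≫ q ≫ pullback.fst π₁ π₂ ≫ π₁, i ≫ q ≫ pullback.fst π₁ π₂, i ≫ q ≫ pullback.snd π₁ π₂, h,
    hfin, hu, hs, ?_, by simp, by simp [pullback.condition], by simp [hq]⟩
  rw [reassoc_of% hi, reassoc_of% hm, reassoc_of% hm1, k₁]

end Groth.Agent.AWN95
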